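import Mathlib

/-!
# Groups of odd order of automorphisms of the elementary abelian group of order eight
-/

set_option autoImplicit false
set_option linter.style.haveILetI false

namespace Cfsg.Agent.EightAut

universe u v

variable {R : Type u} [Group R] [Finite R] {X : Type v} [Group X] [Finite X]
  [MulDistribMulAction R X]

omit [Finite R] in
/-- An element fixing two independent points is trivial. -/
theorem eq_one_of_two_fixed (hX8 : Nat.card X = 8) (hsq : ∀ a : X, a * a = 1)
    (hodd : Odd (Nat.card R)) (hfaith : ∀ r : R, (∀ a : X, r • a = a) → r = 1)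
    {r : R} {x y : X} (hx : x ≠ 1) (hy : y ≠ 1) (hxy : y ≠ x)
    (hrx : r • x = x) (hry : r • y = y) : r = 1 := by
  classical
  haveI := Fintype.ofFinite X
  have hcomm : ∀ a b : X, a * b = b * a := fun a b => by
    have hinv : ∀ c : X, c⁻¹ = c := fun c => inv_eq_of_mul_eq_one_right (hsq c)
    calc a * b = (a * b)⁻¹ := (hinv _).symm
      _ = b * a := by rw [_root_.mul_inv_rev, hinv, hinv]
  let F : Finset X := {1, x, y, x * y}
  have hxyne1 : x * y ≠ 1 := fun h => hxy (mul_left_cancel (h.trans (hsq x).symm))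
  have hxyx : x * y ≠ x := fun h => hy (mul_eq_left.1 h)
  have hxyy : x * y ≠ y := fun h => hx (mul_eq_right.1 h)
  have hF4 : F.card = 4 :=
    Finset.card_eq_four.2 ⟨1, x, y, x * y, hx.symm, hy.symm, hxyne1.symm, hxy.symm, hxyx.symm,
      hxyy.symm, rfl⟩
  have hfixF : ∀ f ∈ F, r • f = f := by
    intro f hf
    simp only [F, Finset.mem_insert, Finset.mem_singleton] at hf
    rcases hf with rfl | rfl | rfl | rfl
    · exact smul_one r
    · exact hrx
    · exact hry
    · rw [smul_mul', hrx, hry]
  have hmulF : ∀ f ∈ F, ∀ g ∈ F, f * g ∈ F := by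
    intro f hf g hg
    simp only [F, Finset.mem_insert, Finset.mem_singleton] at hf hg ⊢
    have e1 : ∀ a b : X, a * (a * b) = b := fun a b => by rw [← mul_assoc, hsq, one_mul]
    have e2 : ∀ a b : X, a * (b * a) = b := fun a b => by rw [hcomm b a, e1]
    rcases hf with e | e | e | e <;> rcases hg with e' | e' | e' | e' <;>
      simp [e, e', hsq, e1, e2, hcomm y x, mul_assoc]
  have htwo : ∀ v : X, r • (r • v) = v := by
    intro v
    by_cases hv : v ∈ F
    · rw [hfixF v hv, hfixF v hv]
    have hwF : r • v ∉ F := fun h => by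
      have := hfixF _ h
      rw [smul_left_cancel_iff] at this
      exact hv (this ▸ h)
    have hcover : ∀ w : X, w ∈ F ∨ v * w ∈ F := by
      have hd : Disjoint F (F.image (v * ·)) := Finset.disjoint_left.2 fun f hf hf' => by
        obtain ⟨g, hg, rfl⟩ := Finset.mem_image.1 hf'
        have := hmulF _ hf g hg
        rw [mul_assoc, hsq, mul_one] at this
        exact hv this
      have hu : F ∪ F.image (v * ·) = Finset.univ := Finset.eq_univ_of_card _ (by
        rw [Finset.card_union_of_disjoint hd,
          Finset.card_image_of_injective _ (mul_right_injective v), hF4,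
          ← Nat.card_eq_fintype_card, hX8])
      intro w
      have hw := Finset.mem_univ w
      rw [← hu, Finset.mem_union, Finset.mem_image] at hw
      rcases hw with h | ⟨g, hg, rfl⟩
      · exact Or.inl h
      · exact Or.inr (by rw [← mul_assoc, hsq, one_mul]; exact hg)
    obtain ⟨f, hf, hfe⟩ : ∃ f ∈ F, r • v = v * f :=
      ⟨v * (r • v), (hcover _).resolve_left hwF, by rw [← mul_assoc, hsq, one_mul]⟩
    rw [hfe, smul_mul', hfe, hfixF f hf, mul_assoc, hsq, mul_one]
  have h2 : r ^ 2 = 1 := hfaith _ fun a => by rw [sq, mul_smul, htwo]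
  have h3 := orderOf_dvd_of_pow_eq_one h2
  rcases (Nat.dvd_prime Nat.prime_two).1 h3 with h | h
  · exact orderOf_eq_one_iff.1 h
  · exact absurd (hodd.of_dvd_nat (h ▸ orderOf_dvd_natCard r)) (by decide)

/-- Without fixed points the group has order `7`, or it is transitive with stabilisers of
order `3`. -/
theorem eight_cases (hX8 : Nat.card X = 8) (hsq : ∀ a : X, a * a = 1)
    (hodd : Odd (Nat.card R)) (hfaith : ∀ r : R, (∀ a : X, r • a = a) → r = 1)
    (hfix : ∀ a : X, a ≠ 1 → ∃ r : R, r • a ≠ a) :
    Nat.card R = 7 ∨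
      ((∀ a b : X, a ≠ 1 → b ≠ 1 → ∃ r : R, r • a = b) ∧
        ∀ a : X, a ≠ 1 → Nat.card (MulAction.stabilizer R a) = 3) := by
  classical
  haveI := Fintype.ofFinite X
  have hstab : ∀ a : X, a ≠ 1 → Nat.card (MulAction.stabilizer R a) = 1 ∨
      Nat.card (MulAction.stabilizer R a) = 3 := by
    intro a ha
    set T := MulAction.stabilizer R a
    haveI : Fintype T := Fintype.ofFinite T
    set A : Finset X := Finset.univ \ {1, a} with hA
    have hA6 : A.card = 6 := by
      rw [hA, Finset.card_sdiff_of_subset (Finset.subset_univ _), Finset.card_pair ha.symm,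
        Finset.card_univ, ← Nat.card_eq_fintype_card, hX8]
    have hmemA : ∀ b, b ∈ A ↔ b ≠ 1 ∧ b ≠ a := fun b => by simp [hA]
    have horb : ∀ b ∈ A, ((Finset.univ : Finset T).image fun r : T => (r : R) • b).card =
        Nat.card T ∧ ((Finset.univ : Finset T).image fun r : T => (r : R) • b) ⊆ A := by
      intro b hb
      obtain ⟨hb1, hba⟩ := (hmemA b).1 hb
      constructor
      · rw [Finset.card_image_of_injective, Finset.card_univ, Nat.card_eq_fintype_card]
        intro r r' h
        have h' : ((r⁻¹ * r' : T) : R) • b = b := by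
          simp only [Subgroup.coe_mul, Subgroup.coe_inv, mul_smul]
          rw [← show (r : R) • b = (r' : R) • b from h, inv_smul_smul]
        have := eq_one_of_two_fixed hX8 hsq hodd hfaith ha hb1 hba (r⁻¹ * r' : T).2 h'
        exact inv_mul_eq_one.1 (Subtype.ext this)
      · intro c hc
        obtain ⟨r, -, rfl⟩ := Finset.mem_image.1 hc
        refine (hmemA _).2 ⟨fun h => hb1 ?_, fun h => hba ?_⟩
        · rwa [smul_eq_iff_eq_inv_smul, smul_one] at h
        · exact smul_left_cancel (r : R) (h.trans r.2.symm)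
    have hTodd : Odd (Nat.card T) := hodd.of_dvd_nat (Subgroup.card_subgroup_dvd_card T)
    obtain ⟨b, hb⟩ : A.Nonempty := Finset.card_pos.1 (by omega)
    obtain ⟨h1, h2⟩ := horb b hb
    set O1 := (Finset.univ : Finset T).image fun r : T => (r : R) • b with hO1
    have hle : O1.card ≤ 6 := hA6 ▸ Finset.card_le_card h2
    have hne : O1.card ≠ 6 := fun h => by
      rw [h1] at h; rw [h] at hTodd; exact absurd hTodd (by decide)
    obtain ⟨c, hc, hcO⟩ := Finset.exists_mem_notMem_of_card_lt_card (show O1.card < A.card by omega)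
    obtain ⟨h3, h4⟩ := horb c hc
    set O2 := (Finset.univ : Finset T).image fun r : T => (r : R) • c with hO2
    have hd : Disjoint O1 O2 := Finset.disjoint_left.2 fun z hz hz' => hcO (by
      obtain ⟨r, -, rfl⟩ := Finset.mem_image.1 hz
      obtain ⟨r', -, hr'⟩ := Finset.mem_image.1 hz'
      refine Finset.mem_image.2 ⟨r'⁻¹ * r, Finset.mem_univ _, ?_⟩
      simp only [Subgroup.coe_mul, Subgroup.coe_inv, mul_smul]
      rw [← hr', inv_smul_smul])
    have := Finset.card_le_card (Finset.union_subset h2 h4)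
    rw [Finset.card_union_of_disjoint hd, h1, h3, hA6] at this
    obtain ⟨k, hk⟩ := hTodd
    omega
  have horbit : ∀ a : X, a ≠ 1 →
      (MulAction.orbit R a).ncard * Nat.card (MulAction.stabilizer R a) = Nat.card R ∧
      Odd (MulAction.orbit R a).ncard ∧ 3 ≤ (MulAction.orbit R a).ncard ∧
      MulAction.orbit R a ⊆ ({1} : Set X)ᶜ := by
    intro a ha
    have h := (MulAction.stabilizer R a).index_mul_card
    rw [MulAction.index_stabilizer] at h
    have ho : Odd (MulAction.orbit R a).ncard :=
      hodd.of_dvd_nat (h ▸ dvd_mul_right _ _)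
    have h1 : (MulAction.orbit R a).ncard ≠ 1 := fun h1 => by
      obtain ⟨r, hr⟩ := hfix a ha
      obtain ⟨z, hz⟩ := Set.ncard_eq_one.1 h1
      have e1 : r • a ∈ ({z} : Set X) := hz ▸ MulAction.mem_orbit a r
      have e2 : a ∈ ({z} : Set X) := hz ▸ MulAction.mem_orbit_self a
      exact hr (e1.trans e2.symm)
    refine ⟨h, ho, ?_, ?_⟩
    · obtain ⟨k, hk⟩ := ho; omega
    · rintro _ ⟨r, rfl⟩ hh
      rw [Set.mem_singleton_iff] at hh
      exact ha (by rwa [smul_eq_iff_eq_inv_smul, smul_one] at hh)
  have hcompl : (({1} : Set X)ᶜ).ncard = 7 := by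
    rw [Set.ncard_compl, Set.ncard_singleton, hX8]
  have htrans : ∀ a b : X, a ≠ 1 → b ≠ 1 → b ∈ MulAction.orbit R a := by
    intro a b ha hb
    by_contra hab
    obtain ⟨-, ⟨i, hi⟩, ha3, has⟩ := horbit a ha
    obtain ⟨-, ⟨j, hj⟩, hb3, hbs⟩ := horbit b hb
    have hdisj : ∀ c d : X, d ∉ MulAction.orbit R c →
        Disjoint (MulAction.orbit R c) (MulAction.orbit R d) := fun c d hcd =>
      Set.disjoint_left.2 fun z hz hz' => hcd (by
        rw [← MulAction.orbit_eq_iff.2 hz, MulAction.orbit_eq_iff.2 hz']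
        exact MulAction.mem_orbit_self d)
    have hsum := Set.ncard_le_ncard (Set.union_subset has hbs) (Set.toFinite _)
    rw [Set.ncard_union_eq (hdisj a b hab), hcompl] at hsum
    have hlt : (MulAction.orbit R a ∪ MulAction.orbit R b).ncard < (({1} : Set X)ᶜ).ncard := by
      rw [Set.ncard_union_eq (hdisj a b hab), hcompl]; omega
    obtain ⟨c, hc, hcab⟩ := Set.exists_mem_notMem_of_ncard_lt_ncard hlt (Set.toFinite _)
    rw [Set.mem_union, not_or] at hcab
    obtain ⟨-, -, hc3, hcs⟩ := horbit c hc
    have := Set.ncard_le_ncard (Set.union_subset (Set.union_subset has hbs) hcs) (Set.toFinite _)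
    rw [Set.ncard_union_eq (Set.disjoint_union_left.2 ⟨hdisj a c hcab.1, hdisj b c hcab.2⟩),
      Set.ncard_union_eq (hdisj a b hab), hcompl] at this
    omega
  have hseven : ∀ a : X, a ≠ 1 →
      Nat.card R = 7 * Nat.card (MulAction.stabilizer R a) := by
    intro a ha
    obtain ⟨h, -, -, has⟩ := horbit a ha
    rw [← h, Set.Subset.antisymm has fun b hb => htrans a b ha hb, hcompl]
  by_cases h7 : Nat.card R = 7
  · exact Or.inl h7
  refine Or.inr ⟨fun a b ha hb => htrans a b ha hb, fun a ha => ?_⟩
  rcases hstab a ha with h | h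
  · exact absurd (by rw [hseven a ha, h]) h7
  · exact h

end Cfsg.Agent.EightAut
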