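import Cfsg.Agent.Lib.Blocks.PairSingular
import Cfsg.Agent.Lib.Blocks.Constrained
import Cfsg.Agent.Lib.Blocks.RegularSum
import Cfsg.Agent.Lib.Blocks.Real
import Cfsg.Agent.Lib.Blocks.SubsectionRow

/-!
# The columns of a character on the section of an involution, averaged over the core
-/

set_option autoImplicit false
set_option linter.style.haveILetI false
set_option linter.unusedSectionVars false

namespace Cfsg.Agent.EightAut

open Cfsg Cfsg.Agent.Char Cfsg.Agent.Blocks
open scoped ComplexConjugate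

universe u

variable {G : Type u} [Group G] [Fintype G] {C : Subgroup G} [Fintype C]
  {O : Subgroup C} [O.Normal] {tC : C}

open scoped Classical in
/-- A fibre of the quotient map. -/
noncomputable def fib (a : C ⧸ O) : Finset C :=
  Finset.univ.filter fun c => QuotientGroup.mk' O c = a

theorem mem_fib {a : C ⧸ O} {c : C} : c ∈ fib a ↔ QuotientGroup.mk' O c = a := by
  classical
  exact ⟨fun h => (Finset.mem_filter.1 h).2, fun h => Finset.mem_filter.2 ⟨Finset.mem_univ _, h⟩⟩

/-- The average of a character over a fibre. -/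
noncomputable def avg (χ : IrrCharacter G) (a : C ⧸ O) : ℂ :=
  (Nat.card O : ℂ)⁻¹ * ∑ c ∈ fib a, (χ : G → ℂ) (c : G)

theorem sum_fib [Fintype O] {M : Type*} [AddCommMonoid M] (f : C → M) {a : C ⧸ O} {c0 : C}
    (hc : QuotientGroup.mk' O c0 = a) : ∑ c ∈ fib a, f c = ∑ o : O, f (c0 * (o : C)) := by
  symm
  refine Finset.sum_bij (fun o _ => c0 * (o : C)) (fun o _ => ?_) (fun o _ o' _ h => ?_)
    (fun c hcm => ?_) (fun o _ => rfl)
  · rw [mem_fib, map_mul, hc, show QuotientGroup.mk' O (o : C) = 1 from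
      (QuotientGroup.eq_one_iff _).2 o.2, mul_one]
  · exact Subtype.ext (mul_left_cancel h)
  · refine ⟨⟨c0⁻¹ * c, (QuotientGroup.eq (s := O)).1 ?_⟩, Finset.mem_univ _, ?_⟩
    · exact hc.trans (mem_fib.1 hcm).symm
    · show c0 * (c0⁻¹ * c) = c
      rw [mul_inv_cancel_left]

theorem card_fib (a : C ⧸ O) : (fib a).card = Nat.card O := by
  classical
  haveI : Fintype O := Fintype.ofFinite O
  obtain ⟨c0, hc⟩ := QuotientGroup.mk'_surjective O a
  rw [Finset.card_eq_sum_ones, sum_fib (fun _ => (1 : ℕ)) hc]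
  simp [Nat.card_eq_fintype_card]

theorem natCard_ne_zero : (Nat.card O : ℂ) ≠ 0 := Nat.cast_ne_zero.2 Nat.card_pos.ne'

theorem avg_inv (χ : IrrCharacter G) (a : C ⧸ O) : avg χ a⁻¹ = conj (avg χ a) := by
  rw [avg, avg, map_mul, map_inv₀, map_natCast, map_sum]
  congr 1
  refine Finset.sum_bij (fun c _ => c⁻¹) (fun c hc => ?_) (fun c _ c' _ h => inv_inj.1 h)
    (fun c hc => ?_) (fun c _ => ?_)
  · rw [mem_fib] at hc ⊢; rw [map_inv, hc, inv_inv]
  · exact ⟨c⁻¹, by rw [mem_fib] at hc ⊢; rw [map_inv, hc], inv_inv c⟩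
  · rw [Subgroup.coe_inv, irr_inv, Complex.conj_conj]

theorem avg_conjIrr (χ : IrrCharacter G) (a : C ⧸ O) :
    avg (conjIrr χ) a = conj (avg χ a) := by
  rw [avg, avg, map_mul, map_inv₀, map_natCast, map_sum]
  simp only [conjIrr_apply]

theorem avg_principal (a : C ⧸ O) : avg (Char.principal G) a = 1 := by
  rw [avg, show (∑ c ∈ fib a, (Char.principal G : G → ℂ) (c : G)) = ∑ c ∈ fib a, (1 : ℂ) from rfl,
    Finset.sum_const, card_fib, nsmul_eq_mul, mul_one, inv_mul_cancel₀ natCard_ne_zero]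

/-- The fibres whose elements have `2`-part `t`. -/
def Good (tC : C) (a : C ⧸ O) : Prop := (QuotientGroup.mk' O tC * a) ^ 3 = 1

theorem not_dvd_orderOf_of_good (hO : ¬ 2 ∣ Nat.card O) {a : C ⧸ O} (ha : Good tC a) {c : C}
    (hc : QuotientGroup.mk' O c = a) : ¬ 2 ∣ orderOf (tC * c) := by
  have h1 : (tC * c) ^ 3 ∈ O := by
    rw [← QuotientGroup.eq_one_iff]
    show QuotientGroup.mk' O ((tC * c) ^ 3) = 1
    rw [map_pow, map_mul, hc]
    exact ha
  have h2 : (tC * c) ^ (3 * Nat.card O) = 1 := by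
    rw [pow_mul]
    exact orderOf_dvd_iff_pow_eq_one.1 (Subgroup.orderOf_dvd_natCard O h1)
  intro h
  rcases (Nat.Prime.dvd_mul Nat.prime_two).1 (h.trans (orderOf_dvd_of_pow_eq_one h2)) with h3 | h3
  · omega
  · exact hO h3

variable {t : G}

theorem tC_sq (ht : (tC : G) = t) (hto : orderOf t = 2) : tC * tC = 1 := Subtype.ext (by
  rw [Subgroup.coe_mul, Subgroup.coe_one, ht, ← sq, ← hto, pow_orderOf_eq_one])

theorem isPPart_of_good (hC : C = Subgroup.centralizer ({t} : Set G)) (ht : (tC : G) = t)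
    (hto : orderOf t = 2) (hO : ¬ 2 ∣ Nat.card O) {a : C ⧸ O} (ha : Good tC a) {c : C}
    (hc : QuotientGroup.mk' O c = a) : IsPPart 2 (c : G) t := by
  have hv : ((tC * c : C) : G) * t = t * ((tC * c : C) : G) :=
    Subgroup.mem_centralizer_singleton_iff.1 (hC.le (tC * c).2)
  refine ⟨((tC * c : C) : G), ?_, hv.symm, ⟨1, by rw [hto, pow_one]⟩, ?_⟩
  · rw [← ht, ← Subgroup.coe_mul, ← mul_assoc, tC_sq ht hto, one_mul]
  · rw [Subgroup.orderOf_coe]
    exact not_dvd_orderOf_of_good hO ha hc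

open scoped Classical in
/-- The inner products of the averaged columns. -/
theorem gram (hC : C = Subgroup.centralizer ({t} : Set G)) (ht : (tC : G) = t)
    (hto : orderOf t = 2) (hO : ¬ 2 ∣ Nat.card O) [Fintype (C ⧸ O)] {a b : C ⧸ O}
    (ha : Good tC a) (hb : Good tC b) :
    ∑ χ : IrrCharacter G, avg χ a * conj (avg χ b) =
      ((Finset.univ.filter fun q : C ⧸ O => q * b * q⁻¹ = a).card : ℂ) := by
  set π := QuotientGroup.mk' O with hπ
  have key : ∀ c' ∈ fib b, ∑ c ∈ fib a, ((Finset.univ.filter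
      fun g : G => g * (c' : G) * g⁻¹ = (c : G)).card : ℂ) =
      (Nat.card O : ℂ) * ((Finset.univ.filter fun q : C ⧸ O => q * b * q⁻¹ = a).card : ℂ) := by
    intro c' hc'
    have hc'' : π c' = b := mem_fib.1 hc'
    simp only [Finset.natCast_card_filter]
    rw [Finset.sum_comm]
    rw [← Fintype.sum_of_injective (fun g : C => (g : G)) Subtype.val_injective
      (fun g : C => if π g * b * (π g)⁻¹ = a then (1 : ℂ) else 0) _ (fun g hg => ?_) (fun g => ?_)]
    · rw [← Finset.sum_fiberwise (s := Finset.univ) (g := fun g : C => π g), Finset.mul_sum]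
      refine Finset.sum_congr rfl fun q _ => ?_
      rw [Finset.sum_congr rfl (g := fun _ => if q * b * q⁻¹ = a then (1 : ℂ) else 0) fun g hg => by
        rw [(Finset.mem_filter.1 hg).2], Finset.sum_const, nsmul_eq_mul,
        ← card_fib q]
      congr 3
    · refine Finset.sum_eq_zero fun c hc => if_neg fun he => hg ⟨⟨g, ?_⟩, rfl⟩
      rw [hC, Subgroup.mem_centralizer_singleton_iff, ← mul_inv_eq_iff_eq_mul]
      exact isPPart_unique Nat.prime_two (he ▸ IsPPart.conj (isPPart_of_good hC ht hto hO hb hc'') g)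
        (isPPart_of_good hC ht hto hO ha (mem_fib.1 hc))
    · have hval : ∀ c : C, ((g : G) * (c' : G) * (g : G)⁻¹ = (c : G)) ↔ c = g * c' * g⁻¹ := by
        intro c
        rw [← Subgroup.coe_inv, ← Subgroup.coe_mul, ← Subgroup.coe_mul, Subtype.coe_inj, eq_comm]
      simp only [hval, Finset.sum_ite_eq', mem_fib]
      refine if_congr ?_ rfl rfl
      rw [← hπ, map_mul, map_mul, map_inv, hc'']
  have e : ∀ χ : IrrCharacter G, avg χ a * conj (avg χ b) =
      ((Nat.card O : ℂ)⁻¹) ^ 2 * ∑ c' ∈ fib b, ∑ c ∈ fib a,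
        (χ : G → ℂ) (c : G) * conj ((χ : G → ℂ) (c' : G)) := fun χ => by
    rw [avg, avg, map_mul, map_inv₀, map_natCast, map_sum, Finset.sum_comm,
      ← Finset.sum_mul_sum]
    ring
  simp only [e]
  rw [← Finset.mul_sum, Finset.sum_comm]
  rw [Finset.sum_congr rfl fun (c' : C) (hc' : c' ∈ fib b) => Finset.sum_comm.trans
    ((Finset.sum_congr rfl fun (c : C) _ => column_orth_count (c : G) (c' : G)).trans
      (key c' hc'))]
  rw [Finset.sum_const, card_fib, nsmul_eq_mul]
  field_simp [natCard_ne_zero (O := O)]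

/-- At an element of order dividing `6` a character has integral `ω`-parts. -/
theorem exists_int_char {Q : Type*} [Group Q] [Finite Q] {f : Q → ℂ} (hf : IsCharacter Q f)
    {y : Q} (hy : y ^ 6 = 1) {w : ℂ} (hw : w ^ 3 = 1) :
    ∃ d : ℤ, 3 * (d : ℂ) = f (y ^ 3) + w ^ 2 * f y + w * f (y ^ 5) := by
  obtain ⟨n, ρ, rfl⟩ := hf
  obtain ⟨L, -, hL, hk, -⟩ := exists_eigenvalues ρ y
  have h1 : ρ.character y = (L.map fun z => z).sum := by simpa using hk 1
  rw [hk 3, hk 5, h1]
  have hL6 : ∀ z ∈ L, z ^ 6 = 1 := fun z hz => by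
    obtain ⟨k, hk⟩ := orderOf_dvd_of_pow_eq_one hy
    rw [hk, pow_mul, hL z hz, one_pow]
  clear hk h1 hL
  induction L using Multiset.induction with
  | empty => exact ⟨0, by simp⟩
  | cons z L ih =>
    obtain ⟨d, hd⟩ := ih fun x hx => hL6 x (Multiset.mem_cons_of_mem hx)
    have hz := hL6 z (Multiset.mem_cons_self z L)
    obtain ⟨e, he⟩ : ∃ e : ℤ, 3 * (e : ℂ) = z ^ 3 + w ^ 2 * z + w * z ^ 5 := by
      have e1 : z ^ 3 + w ^ 2 * z + w * z ^ 5 =
          z ^ 3 * (1 + w * z ^ 2 + (w * z ^ 2) ^ 2) := by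
        linear_combination -(w ^ 2 * z) * hz
      have e2 : ((w * z ^ 2) - 1) * (1 + w * z ^ 2 + (w * z ^ 2) ^ 2) = 0 := by
        linear_combination (w ^ 3) * hz + hw
      rcases mul_eq_zero.1 e2 with h | h
      · rw [e1, sub_eq_zero.1 h]
        have h3 : (z ^ 3 - 1) * (z ^ 3 + 1) = 0 := by linear_combination hz
        rcases mul_eq_zero.1 h3 with h' | h'
        · exact ⟨1, by rw [sub_eq_zero.1 h']; norm_num⟩
        · exact ⟨-1, by rw [eq_neg_of_add_eq_zero_left h']; norm_num⟩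
      · exact ⟨0, by rw [e1, h, mul_zero, Int.cast_zero, mul_zero]⟩
    refine ⟨e + d, ?_⟩
    simp only [Multiset.map_cons, Multiset.sum_cons]
    push_cast
    linear_combination he + hd

/-- The `ω`-parts of an averaged column are integral. -/
theorem exists_int_avg (χ : IrrCharacter G) {y : C ⧸ O} (hy : y ^ 6 = 1) {w : ℂ}
    (hw : w ^ 3 = 1) :
    ∃ d : ℤ, 3 * (d : ℂ) = avg χ (y ^ 3) + w ^ 2 * avg χ y + w * avg χ y⁻¹ := by
  classical
  haveI : Fintype O := Fintype.ofFinite O
  obtain ⟨n, hn, -⟩ := exists_mults C χ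
  have hy5 : y⁻¹ = y ^ 5 := inv_eq_of_mul_eq_one_right (by rw [← pow_succ']; exact hy)
  have hth : ∀ θ : IrrCharacter C, ∃ f : C ⧸ O → ℂ, (f = 0 ∨ IsCharacter (C ⧸ O) f) ∧
      ∀ c : C, (Nat.card O : ℂ)⁻¹ * ∑ o : O, (θ : C → ℂ) (c * (o : C)) =
        f (QuotientGroup.mk' O c) := by
    intro θ
    by_cases h : ∀ x ∈ O, (θ : C → ℂ) x = (θ : C → ℂ) 1
    · obtain ⟨f, hf, hfe, -⟩ := IsCharacter.deflate (irr_isCharacter θ) O h
      refine ⟨f, Or.inr hf, fun c => ?_⟩
      rw [Finset.sum_congr rfl (g := fun _ => f (QuotientGroup.mk' O c)) fun o _ => ?_,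
        Finset.sum_const, Finset.card_univ, ← Nat.card_eq_fintype_card, nsmul_eq_mul,
        inv_mul_cancel_left₀ natCard_ne_zero]
      rw [← hfe]
      exact congrArg f (QuotientGroup.eq.2 (by simp))
    · push Not at h
      refine ⟨0, Or.inl rfl, fun c => ?_⟩
      rw [CharX.sum_coset_eq_zero θ.2 O h c, mul_zero, Pi.zero_apply]
  choose f hf hfe using hth
  have havg : ∀ a, avg χ a = ∑ θ, (n θ : ℂ) * f θ a := by
    intro a
    obtain ⟨c, hc⟩ := QuotientGroup.mk'_surjective O a
    simp only [avg, sum_fib _ hc, hn]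
    rw [Finset.sum_comm, Finset.mul_sum]
    refine Finset.sum_congr rfl fun θ _ => ?_
    rw [← Finset.mul_sum, mul_left_comm, hfe θ c, hc]
  have hd : ∀ θ, ∃ d : ℤ, 3 * (d : ℂ) = f θ (y ^ 3) + w ^ 2 * f θ y + w * f θ (y ^ 5) := by
    intro θ
    rcases hf θ with h | h
    · exact ⟨0, by simp [h]⟩
    · exact exists_int_char h hy hw
  choose d hd using hd
  refine ⟨∑ θ, (n θ : ℤ) * d θ, ?_⟩
  rw [hy5, havg, havg, havg]
  push_cast
  simp only [Finset.mul_sum, ← Finset.sum_add_distrib]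
  exact Finset.sum_congr rfl fun θ _ => by linear_combination (n θ : ℂ) * hd θ

variable {M : Ideal AlgInt} [M.IsPrime]

/-- Characters trivial on the core lie in the principal block, the quotient being constrained. -/
theorem mem_principalBlock_of_trivialOn (hM : IsPModular 2 M) [Fintype (C ⧸ O)]
    (Sb : Subgroup (C ⧸ O)) [Sb.Normal] (hSp : IsPGroup 2 Sb)
    (hSc : Subgroup.centralizer (Sb : Set (C ⧸ O)) ≤ Sb) {φ : IrrCharacter C}
    (h : ∀ x ∈ O, (φ : C → ℂ) x = (φ : C → ℂ) 1) : φ ∈ principalBlock M C := by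
  obtain ⟨f, -, hfe, hirr⟩ := IsCharacter.deflate (irr_isCharacter φ) O h
  let ψ : IrrCharacter (C ⧸ O) := ⟨f, hirr φ.2⟩
  have hψ : ψ ∈ principalBlock M (C ⧸ O) :=
    sameBlock_of_centralizer_le hM Sb hSp hSc (Char.principal _) ψ
  rw [mem_principalBlock_iff] at hψ ⊢
  intro c
  set a := QuotientGroup.mk' O c with ha
  obtain ⟨k, hk⟩ : (Subgroup.centralizer ({a} : Set (C ⧸ O))).index ∣
      (Subgroup.centralizer ({c} : Set C)).index := by
    refine (Subgroup.index_dvd_of_le ?_).trans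
      (Subgroup.index_map_dvd _ (QuotientGroup.mk'_surjective O))
    rintro _ ⟨g, hg, rfl⟩
    rw [SetLike.mem_coe, Subgroup.mem_centralizer_singleton_iff] at hg
    rw [Subgroup.mem_centralizer_singleton_iff, ha, ← map_mul, ← map_mul, hg]
  have h1 : MemLocalRing M (k : ℂ) :=
    mem_locRing_of_isIntegral (by exact_mod_cast (isIntegral_algebraMap (x := (k : ℤ))))
  convert MemLocalIdeal.mul_left h1 (hψ a) using 1
  have e1 : (ψ : C ⧸ O → ℂ) a = (φ : C → ℂ) c := hfe c
  have e2 : (ψ : C ⧸ O → ℂ) 1 = (φ : C → ℂ) 1 := hfe 1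
  rw [centralChar, centralChar, e1, e2, hk, Nat.cast_mul]
  ring

/-- Outside the principal block the averaged columns of the section vanish. -/
theorem avg_eq_zero (hM : IsPModular 2 M) (hC : C = Subgroup.centralizer ({t} : Set G))
    (ht : (tC : G) = t) (hto : orderOf t = 2) (hO : ¬ 2 ∣ Nat.card O) [Fintype (C ⧸ O)]
    (Sb : Subgroup (C ⧸ O)) [Sb.Normal] (hSp : IsPGroup 2 Sb)
    (hSc : Subgroup.centralizer (Sb : Set (C ⧸ O)) ≤ Sb) {χ : IrrCharacter G}
    (hχ : χ ∉ principalBlock M G) {a : C ⧸ O} (ha : Good tC a) : avg χ a = 0 := by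
  classical
  haveI : Fintype O := Fintype.ofFinite O
  obtain ⟨c0, hc0⟩ := QuotientGroup.mk'_surjective O a
  have hx : ∃ k, orderOf t = 2 ^ k := ⟨1, by rw [hto, pow_one]⟩
  have hnot : ¬ IsInducedBlock M C (principalBlock M C) (blockOf M (χ : G → ℂ)) := by
    intro hind
    have h0 : IsInducedBlock M C (principalBlock M C) (principalBlock M G) :=
      (mem_unitBlocks_iff_induced' hM hx hC (isPBlock_principalBlock M G)).1
        (by rw [unitBlocks_principal hM hx hC]; exact Finset.mem_singleton_self _)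
    exact hχ (isInducedBlock_unique hind h0 ▸ self_mem_blockOf χ)
  have hzero := blockPart_secFun_eq_zero hM hx hC (isPBlock_blockOf χ) (self_mem_blockOf χ)
    (isPBlock_principalBlock M C) hnot (u := tC * c0) (not_dvd_orderOf_of_good hO ha hc0)
  have hcf := isClassFunction_secFun hC (IsCharacter.isClassFunction (irr_isCharacter χ))
  have e : ∀ o : O, (χ : G → ℂ) ((c0 * (o : C) : C) : G) =
      ∑ φ : IrrCharacter C, classInner (secFun t C (χ : G → ℂ)) (φ : C → ℂ) *
        (φ : C → ℂ) (tC * c0 * (o : C)) := by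
    intro o
    have h := congrFun (classFunction_eq_sum hcf) (tC * c0 * (o : C))
    simp only [Finset.sum_apply, Pi.smul_apply, smul_eq_mul] at h
    have e' : tC * (tC * c0 * (o : C)) = c0 * (o : C) := by
      rw [← mul_assoc, ← mul_assoc, tC_sq ht hto, one_mul]
    rw [← h, secFun, ← ht, ← Subgroup.coe_mul, e']
  rw [avg, sum_fib _ hc0]
  refine mul_eq_zero_of_right _ ?_
  simp only [e]
  rw [Finset.sum_comm]
  calc ∑ φ : IrrCharacter C, ∑ o : O, classInner (secFun t C (χ : G → ℂ)) (φ : C → ℂ) *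
        (φ : C → ℂ) (tC * c0 * (o : C))
      = ∑ φ : IrrCharacter C, (Nat.card O : ℂ) * (if φ ∈ principalBlock M C then
          classInner (secFun t C (χ : G → ℂ)) (φ : C → ℂ) * (φ : C → ℂ) (tC * c0) else 0) := by
        refine Finset.sum_congr rfl fun φ _ => ?_
        rw [← Finset.mul_sum]
        by_cases hφ : φ ∈ principalBlock M C
        · rw [if_pos hφ]
          have htriv := trivialOn_of_sameBlock hM O hO (χ := Char.principal C) (ψ := φ) hφ
            (fun _ _ => rfl)
          obtain ⟨f, -, hfe, -⟩ := IsCharacter.deflate (irr_isCharacter φ) O htriv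
          rw [Finset.sum_congr rfl (g := fun _ => (φ : C → ℂ) (tC * c0)) fun o _ => ?_,
            Finset.sum_const, Finset.card_univ, ← Nat.card_eq_fintype_card, nsmul_eq_mul]
          · ring
          · rw [← hfe, ← hfe]
            exact congrArg f (QuotientGroup.eq.2 (by simp [mul_assoc]))
        · rw [if_neg hφ, mul_zero, CharX.sum_coset_eq_zero φ.2 O ?_ _, mul_zero]
          by_contra h
          push Not at h
          exact hφ (mem_principalBlock_of_trivialOn hM Sb hSp hSc h)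
    _ = (Nat.card O : ℂ) * blockPart (principalBlock M C) (secFun t C (χ : G → ℂ)) (tC * c0) := by
        rw [← Finset.mul_sum, blockPart_eq_sum, ← Finset.sum_filter]
    _ = 0 := by rw [hzero, mul_zero]

/-- In the principal block the averaged column is the value at the involution. -/
theorem avg_eq_value (hM : IsPModular 2 M) (hC : C = Subgroup.centralizer ({t} : Set G))
    (ht : (tC : G) = t) (hto : orderOf t = 2) (hO : ¬ 2 ∣ Nat.card O) {χ : IrrCharacter G}
    (hχ : χ ∈ principalBlock M G) : avg χ (QuotientGroup.mk' O tC) = (χ : G → ℂ) t := by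
  haveI : Fintype O := Fintype.ofFinite O
  rw [avg, sum_fib (a := QuotientGroup.mk' O tC) _ rfl,
    Finset.sum_congr rfl (g := fun _ => (χ : G → ℂ) t) fun o _ => ?_, Finset.sum_const,
    Finset.card_univ, ← Nat.card_eq_fintype_card, nsmul_eq_mul,
    inv_mul_cancel_left₀ natCard_ne_zero]
  rw [Subgroup.coe_mul, ht]
  exact irr_section_of_kernel hM ⟨1, by rw [hto, pow_one]⟩ hC hχ O hO o.2

/-- No two conjugates of the involution have their product on a fibre inverted by no element. -/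
theorem class_relation (hC : C = Subgroup.centralizer ({t} : Set G)) (ht : (tC : G) = t)
    (hto : orderOf t = 2) (hO : ¬ 2 ∣ Nat.card O) {a : C ⧸ O} (ha : Good tC a)
    (hnc : ¬ IsConj a a⁻¹) :
    ∑ χ : IrrCharacter G, (χ : G → ℂ) t ^ 2 * conj (avg χ a) / (χ : G → ℂ) 1 = 0 := by
  classical
  have key : ∀ c ∈ fib a, ∑ χ : IrrCharacter G,
      (χ : G → ℂ) t ^ 2 * conj ((χ : G → ℂ) (c : G)) / (χ : G → ℂ) 1 = 0 := by
    intro c hc
    have hconj : ∀ g h : G, h ∈ classFinset (c : G) → g * h * g⁻¹ ∈ classFinset (c : G) :=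
      fun g h hh => mem_classFinset.2 ((mem_classFinset.1 hh).trans (isConj_iff.2 ⟨g, rfl⟩))
    have h0 := PairSing.count_pairs t (classFinset (c : G)) hconj
    rw [Finset.filter_eq_empty_iff.2 ?_, Finset.card_empty, Nat.cast_zero, mul_zero] at h0
    · have e : ∀ χ : IrrCharacter G, (∑ g ∈ classFinset (c : G), conj ((χ : G → ℂ) g)) *
          ((((Subgroup.centralizer ({t} : Set G)).index : ℂ) * (χ : G → ℂ) t) ^ 2 /
            (χ : G → ℂ) 1) =
          (((Subgroup.centralizer ({(c : G)} : Set G)).index : ℂ) *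
            ((Subgroup.centralizer ({t} : Set G)).index : ℂ) ^ 2) *
            ((χ : G → ℂ) t ^ 2 * conj ((χ : G → ℂ) (c : G)) / (χ : G → ℂ) 1) := fun χ => by
        rw [← map_sum, sum_char_class (IsCharacter.isClassFunction (irr_isCharacter χ)), map_mul,
          map_natCast]
        ring
      simp only [e, ← Finset.mul_sum] at h0
      refine (mul_eq_zero.1 h0.symm).resolve_left ?_
      exact mul_ne_zero (Nat.cast_ne_zero.2 Subgroup.index_ne_zero_of_finite)
        (pow_ne_zero _ (Nat.cast_ne_zero.2 Subgroup.index_ne_zero_of_finite))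
    · rintro ⟨u, v⟩ huv hmem
      simp only [Finset.mem_product, mem_classFinset] at huv hmem
      have hsq : ∀ w, IsConj t w → w * w = 1 := fun w hw => by
        obtain ⟨g, rfl⟩ := isConj_iff.1 hw
        calc g * t * g⁻¹ * (g * t * g⁻¹) = g * (t * t) * g⁻¹ := by group
          _ = 1 := by rw [← sq, ← hto, pow_orderOf_eq_one, mul_one, mul_inv_cancel]
      obtain ⟨h, hh⟩ := isConj_iff.1 hmem
      set u0 := h⁻¹ * u * h with hu0
      have e1 : u0 * (c : G) * u0⁻¹ = (c : G)⁻¹ := by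
        have ec : (c : G) = h⁻¹ * (u * v) * h := by rw [← hh]; group
        have eu : u⁻¹ = u := inv_eq_of_mul_eq_one_right (hsq u huv.1)
        have ev : v⁻¹ = v := inv_eq_of_mul_eq_one_right (hsq v huv.2)
        rw [ec, hu0]
        calc h⁻¹ * u * h * (h⁻¹ * (u * v) * h) * (h⁻¹ * u * h)⁻¹
            = h⁻¹ * ((u * u) * v * u⁻¹) * h := by group
          _ = (h⁻¹ * (u * v) * h)⁻¹ := by
            rw [hsq u huv.1, one_mul]
            simp only [_root_.mul_inv_rev, inv_inv, ev, eu, mul_assoc]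
      have hp := isPPart_of_good hC ht hto hO ha (mem_fib.1 hc)
      have htinv : t⁻¹ = t :=
        inv_eq_of_mul_eq_one_right (by rw [← sq, ← hto, pow_orderOf_eq_one])
      have hu : u0 * t * u0⁻¹ = t := by
        have := isPPart_unique Nat.prime_two (e1 ▸ IsPPart.conj hp u0) (IsPPart.inv hp)
        rwa [htinv] at this
      have hu0C : u0 ∈ C := by
        rw [hC, Subgroup.mem_centralizer_singleton_iff, ← mul_inv_eq_iff_eq_mul]
        exact hu
      refine hnc (isConj_iff.2 ⟨QuotientGroup.mk' O ⟨u0, hu0C⟩, ?_⟩)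
      rw [← mem_fib.1 hc, ← map_inv, ← map_inv, ← map_mul, ← map_mul]
      exact congrArg _ (Subtype.ext e1)
  have e : ∀ χ : IrrCharacter G, (χ : G → ℂ) t ^ 2 * conj (avg χ a) / (χ : G → ℂ) 1 =
      (Nat.card O : ℂ)⁻¹ *
        ∑ c ∈ fib a, (χ : G → ℂ) t ^ 2 * conj ((χ : G → ℂ) (c : G)) / (χ : G → ℂ) 1 := fun χ => by
    rw [avg, map_mul, map_inv₀, map_natCast, map_sum, ← Finset.sum_div, ← Finset.mul_sum]
    ring
  simp only [e, ← Finset.mul_sum]
  rw [Finset.sum_comm, Finset.sum_eq_zero key, mul_zero]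

end Cfsg.Agent.EightAut
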