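import Cfsg.Agent.Lib.EightAut.Rows
import Cfsg.Agent.Lib.EightAut.Chars

/-!
# The centraliser shape `2 × A₄` modulo the core is impossible in a simple group
-/

set_option autoImplicit false
set_option linter.style.haveILetI false
set_option linter.unusedSectionVars false

namespace Cfsg.Agent.EightAut

open Cfsg Cfsg.Agent.Char Cfsg.Agent.Blocks
open scoped ComplexConjugate

universe u

variable {G : Type u} [Group G] [Fintype G]

/-- The degree and the value at the involution. -/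
theorem value_facts [IsSimpleGroup G] (S : Sylow 2 G)
    (hS8 : Nat.card ↥(S : Subgroup G) = 8) {t : G} (hto : orderOf t = 2)
    (hone : ∀ s ∈ (S : Subgroup G), s ≠ 1 → IsConj t s) {χ : IrrCharacter G}
    (hχ : χ ≠ Char.principal G) {U : ℤ} (hU : (χ : G → ℂ) t = U) :
    ((charDegree (χ : G → ℂ) : ℤ) - U) % 8 = 0 ∧
      0 ≤ (charDegree (χ : G → ℂ) : ℤ) + 7 * U ∧ (charDegree (χ : G → ℂ) : ℤ) ≠ U := by
  classical
  set P := (S : Subgroup G)
  haveI : Fintype P := Fintype.ofFinite _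
  obtain ⟨m, hm⟩ := exists_sum_subgroup_eq P χ
  rw [← Finset.add_sum_erase _ _ (Finset.mem_univ (1 : P)),
    Finset.sum_congr rfl (g := fun _ => (χ : G → ℂ) t) fun s hs =>
      irr_isConj χ (hone _ s.2 fun h => (Finset.mem_erase.1 hs).1 (Subtype.ext h)),
    Finset.sum_const, Finset.card_erase_of_mem (Finset.mem_univ _), Finset.card_univ,
    ← Nat.card_eq_fintype_card, hS8, nsmul_eq_mul, OneMemClass.coe_one, irr_one_eq_charDegree,
    hU] at hm
  have hz : (charDegree (χ : G → ℂ) : ℤ) + 7 * U = 8 * (m : ℤ) := by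
    apply Int.cast_injective (α := ℂ)
    push_cast
    linear_combination hm
  refine ⟨by omega, by omega, fun he => ?_⟩
  obtain ⟨W, hWn, hWmem, -⟩ := IsCharacter.exists_kernel (irr_isCharacter χ)
  have htW : t ∈ W := (hWmem t).2 (by rw [hU, irr_one_eq_charDegree, ← he, Int.cast_natCast])
  have htop : W = ⊤ := by
    refine hWn.eq_bot_or_eq_top.resolve_left fun h => ?_
    rw [h, Subgroup.mem_bot] at htW
    rw [htW, orderOf_one] at hto
    omega
  have hconst : ∀ g, (χ : G → ℂ) g = (χ : G → ℂ) 1 := fun g =>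
    (hWmem g).1 (htop ▸ Subgroup.mem_top g)
  have h0 := classInner_irr_of_ne χ.2 (Char.principal G).2 (fun h => hχ (Subtype.ext h))
  rw [classInner] at h0
  simp only [hconst, Char.principal, map_one, mul_one, Finset.sum_const,
    Finset.card_univ, nsmul_eq_mul, ← Nat.card_eq_fintype_card] at h0
  rw [← mul_assoc, inv_mul_cancel₀ (Nat.cast_ne_zero.2 Nat.card_pos.ne'), one_mul] at h0
  exact irr_one_ne_zero χ h0

theorem no_shape [IsSimpleGroup G] (S : Sylow 2 G) (hS8 : Nat.card ↥(S : Subgroup G) = 8)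
    {t : G} (hto : orderOf t = 2) (hone : ∀ s ∈ (S : Subgroup G), s ≠ 1 → IsConj t s)
    {C : Subgroup G} [Fintype C] (hC : C = Subgroup.centralizer ({t} : Set G))
    (O : Subgroup C) [O.Normal] (hO : ¬ 2 ∣ Nat.card O)
    (Sb : Subgroup (C ⧸ O)) [Sb.Normal] (hSp : IsPGroup 2 Sb)
    (hSc : Subgroup.centralizer (Sb : Set (C ⧸ O)) ≤ Sb)
    (y : C ⧸ O) (tC : C) (ht : (tC : G) = t) (h24 : Nat.card (C ⧸ O) = 24)
    (hy6 : y ^ 6 = 1) (hy3 : y ^ 3 = QuotientGroup.mk' O tC) (hy2 : y ^ 2 ≠ 1)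
    (hcy : Nat.card (Subgroup.centralizer ({y} : Set (C ⧸ O))) = 6)
    (hnc : ¬ IsConj y y⁻¹) : False := by
  classical
  haveI : Fintype (C ⧸ O) := Fintype.ofFinite _
  haveI : Fact (Nat.Prime 2) := ⟨Nat.prime_two⟩
  obtain ⟨M, hM⟩ := GlaubermanMod.exists_isPModular 2
  haveI : M.IsPrime := hM.2.1.isPrime
  set τ := QuotientGroup.mk' O tC with hτ
  have hτ2 : τ * τ = 1 := by rw [← hy3, ← pow_add]; exact hy6
  have hτinv : τ⁻¹ = τ := inv_eq_of_mul_eq_one_right hτ2
  have gτ : Good tC τ := by show (τ * τ) ^ 3 = 1; rw [hτ2, one_pow]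
  have gy : Good tC y := by
    show (τ * y) ^ 3 = 1
    rw [← hy3, ← pow_succ, ← pow_mul, show (3 + 1) * 3 = 6 * 2 by norm_num, pow_mul, hy6, one_pow]
  have gy' : Good tC y⁻¹ := by
    show (τ * y⁻¹) ^ 3 = 1
    rw [← hy3, pow_succ y 2, mul_inv_cancel_right, ← pow_mul]
    exact hy6
  have hτy : ∀ q : C ⧸ O, q * y * q⁻¹ ≠ τ := fun q h => hy2 (by
    have h' : MulAut.conj q (y ^ 2) = 1 := by
      rw [map_pow, MulAut.conj_apply, h, sq, hτ2]
    exact (map_eq_one_iff _ (MulAut.conj q).injective).1 h')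
  have hτy' : ∀ q : C ⧸ O, q * y⁻¹ * q⁻¹ ≠ τ := fun q h => hτy q (by
    rw [← hτinv, ← h]; group)
  have hcount : ∀ {a b : C ⧸ O}, (∀ q : C ⧸ O, q * b * q⁻¹ ≠ a) →
      ((Finset.univ.filter fun q : C ⧸ O => q * b * q⁻¹ = a).card : ℂ) = 0 := fun {a b} h => by
    rw [Finset.filter_eq_empty_iff.2 fun q _ => h q, Finset.card_empty, Nat.cast_zero]
  -- the columns
  let u : IrrCharacter G → ℂ := fun χ => avg χ τ
  let z : IrrCharacter G → ℂ := fun χ => avg χ y
  let z' : IrrCharacter G → ℂ := fun χ => avg χ y⁻¹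
  have hu : ∀ χ, conj (u χ) = u χ := fun χ => by simp only [u]; rw [← avg_inv, hτinv]
  have hz : ∀ χ, conj (z χ) = z' χ := fun χ => (avg_inv χ y).symm
  have hz' : ∀ χ, conj (z' χ) = z χ := fun χ => by rw [← hz, Complex.conj_conj]
  have suu : ∑ χ, u χ * u χ = 24 := by
    have h := gram hC ht hto hO gτ gτ
    rw [Finset.filter_true_of_mem fun q _ => ?_, Finset.card_univ, ← Nat.card_eq_fintype_card,
      h24] at h
    · rw [← show ((24 : ℕ) : ℂ) = 24 by norm_num, ← h]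
      exact Finset.sum_congr rfl fun χ _ => by rw [hu]
    · obtain ⟨c, rfl⟩ := QuotientGroup.mk'_surjective O q
      rw [hτ, ← map_inv, ← map_mul, ← map_mul]
      refine congrArg _ (Subtype.ext ?_)
      rw [Subgroup.coe_mul, Subgroup.coe_mul, Subgroup.coe_inv, ht,
        Subgroup.mem_centralizer_singleton_iff.1 (hC.le c.2), mul_inv_cancel_right]
  have suz : ∑ χ, u χ * z χ = 0 := by
    rw [← hcount hτy', ← gram hC ht hto hO gτ gy']
    exact Finset.sum_congr rfl fun χ _ => by rw [hz']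
  have suz' : ∑ χ, u χ * z' χ = 0 := by
    rw [← hcount hτy, ← gram hC ht hto hO gτ gy]
    exact Finset.sum_congr rfl fun χ _ => by rw [hz]
  have szz : ∑ χ, z χ * z χ = 0 := by
    rw [← hcount (a := y) (b := y⁻¹) fun q h => hnc (isConj_iff.2 ⟨q, by
        calc q * y * q⁻¹ = (q * y⁻¹ * q⁻¹)⁻¹ := by group
          _ = y⁻¹ := by rw [h]⟩),
      ← gram hC ht hto hO gy gy']
    exact Finset.sum_congr rfl fun χ _ => by rw [hz']
  have sz'z' : ∑ χ, z' χ * z' χ = 0 := by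
    rw [← hcount (a := y⁻¹) (b := y) fun q h => hnc (isConj_iff.2 ⟨q, h⟩),
      ← gram hC ht hto hO gy' gy]
    exact Finset.sum_congr rfl fun χ _ => by rw [hz]
  have szz' : ∑ χ, z χ * z' χ = 6 := by
    have h := gram hC ht hto hO gy gy
    rw [show (Finset.univ.filter fun q : C ⧸ O => q * y * q⁻¹ = y).card = 6 from ?_] at h
    · rw [← show ((6 : ℕ) : ℂ) = 6 by norm_num, ← h]
      exact Finset.sum_congr rfl fun χ _ => by rw [hz]
    · rw [← hcy, ← Fintype.card_subtype, ← Nat.card_eq_fintype_card]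
      exact Nat.card_congr (Equiv.subtypeEquivRight fun q => by
        rw [Subgroup.mem_centralizer_singleton_iff, mul_inv_eq_iff_eq_mul])
  have hbil : ∀ p q p' q' : ℂ, ∑ χ, (u χ + p * z χ + q * z' χ) * (u χ + p' * z χ + q' * z' χ) =
      24 + 6 * (p * q' + q * p') := by
    intro p q p' q'
    have e : ∀ χ, (u χ + p * z χ + q * z' χ) * (u χ + p' * z χ + q' * z' χ) =
        u χ * u χ + (p + p') * (u χ * z χ) + (q + q') * (u χ * z' χ) + p * p' * (z χ * z χ) +
          q * q' * (z' χ * z' χ) + (p * q' + q * p') * (z χ * z' χ) := fun χ => by ring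
    simp only [e, Finset.sum_add_distrib, ← Finset.mul_sum, suu, suz, suz', szz, sz'z', szz']
    ring
  -- the cube root of unity
  obtain ⟨ω, hω⟩ : ∃ ω : ℂ, IsPrimitiveRoot ω 3 :=
    ⟨_, Complex.isPrimitiveRoot_exp 3 (by norm_num)⟩
  have hω3 : ω ^ 3 = 1 := hω.pow_eq_one
  have hωs : 1 + ω + ω ^ 2 = 0 := by
    have h := hω.geom_sum_eq_zero (by norm_num)
    simp only [Finset.sum_range_succ, Finset.sum_range_zero, zero_add, pow_zero, pow_one] at h
    exact h
  have hint : ∀ (χ : IrrCharacter G) (w : ℂ), w ^ 3 = 1 →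
      ∃ d : ℤ, 3 * (d : ℂ) = u χ + w ^ 2 * z χ + w * z' χ := by
    intro χ w hw
    obtain ⟨d, hd⟩ := exists_int_avg χ hy6 hw
    rw [hy3] at hd
    exact ⟨d, hd⟩
  choose a ha using fun χ => hint χ 1 (one_pow _)
  choose b hb using fun χ => hint χ ω hω3
  choose c hc using fun χ => hint χ (ω ^ 2) (by rw [← pow_mul, pow_mul', hω3, one_pow])
  have ha' : ∀ χ, 3 * (a χ : ℂ) = u χ + 1 * z χ + 1 * z' χ := fun χ => by
    rw [ha, one_pow]
  have hc' : ∀ χ, 3 * (c χ : ℂ) = u χ + ω * z χ + ω ^ 2 * z' χ := fun χ => by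
    rw [hc, show (ω ^ 2) ^ 2 = ω by linear_combination ω * hω3]
  have hsum : ∀ χ, u χ = ((a χ + b χ + c χ : ℤ) : ℂ) := fun χ => by
    push_cast
    linear_combination -((ha' χ + hb χ + hc' χ + (z χ + z' χ) * hωs) / 3)
  have hdiff : ∀ χ, z χ + z' χ = ((2 * a χ - b χ - c χ : ℤ) : ℂ) := fun χ => by
    push_cast
    linear_combination -((2 * ha' χ - hb χ - hc' χ - (z χ + z' χ) * hωs) / 3)
  -- the trivial and the conjugate characters
  set χ₁ := Char.principal G with hχ₁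
  have hP : ∀ v : C ⧸ O, avg χ₁ v = 1 := fun v => avg_principal v
  have ha1 : a χ₁ = 1 := by
    apply Int.cast_injective (α := ℂ)
    have h := ha' χ₁
    simp only [u, z, z', hP] at h
    push_cast
    linear_combination h / 3
  have hb1 : b χ₁ = 0 := by
    apply Int.cast_injective (α := ℂ)
    have h := hb χ₁
    simp only [u, z, z', hP] at h
    push_cast
    linear_combination (h + hωs) / 3
  have hc1 : c χ₁ = 0 := by
    apply Int.cast_injective (α := ℂ)
    have h := hc' χ₁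
    simp only [u, z, z', hP] at h
    push_cast
    linear_combination (h + hωs) / 3
  have hcu : ∀ χ, u (conjIrr χ) = u χ := fun χ => (avg_conjIrr χ τ).trans (hu χ)
  have hcz : ∀ χ, z (conjIrr χ) = z' χ := fun χ => (avg_conjIrr χ y).trans (hz χ)
  have hcz' : ∀ χ, z' (conjIrr χ) = z χ := fun χ => (avg_conjIrr χ y⁻¹).trans (hz' χ)
  have haconj : ∀ χ, a (conjIrr χ) = a χ := fun χ => by
    apply Int.cast_injective (α := ℂ)
    have h := ha' (conjIrr χ)
    rw [hcu, hcz, hcz'] at h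
    linear_combination (h - ha' χ) / 3
  have hbconj : ∀ χ, b (conjIrr χ) = c χ := fun χ => by
    apply Int.cast_injective (α := ℂ)
    have h := hb (conjIrr χ)
    rw [hcu, hcz, hcz'] at h
    linear_combination (h - hc' χ) / 3
  -- the Gram matrix of the nontrivial characters
  set E := (Finset.univ : Finset (IrrCharacter G)).erase χ₁ with hE
  have hgr : ∀ (f g : IrrCharacter G → ℤ) (p q p' q' : ℂ) (k : ℤ),
      (∀ χ, 3 * (f χ : ℂ) = u χ + p * z χ + q * z' χ) →
      (∀ χ, 3 * (g χ : ℂ) = u χ + p' * z χ + q' * z' χ) →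
      (9 * k : ℂ) = 24 + 6 * (p * q' + q * p') →
      ∑ χ ∈ E, f χ * g χ = k - f χ₁ * g χ₁ := by
    intro f g p q p' q' k hf hg hk
    rw [eq_sub_iff_add_eq, add_comm,
      Finset.add_sum_erase _ (fun χ => f χ * g χ) (Finset.mem_univ χ₁)]
    apply Int.cast_injective (α := ℂ)
    push_cast
    apply mul_left_cancel₀ (show (9 : ℂ) ≠ 0 by norm_num)
    rw [hk, ← hbil p q p' q', Finset.mul_sum]
    exact Finset.sum_congr rfl fun χ _ => by rw [← hf, ← hg]; ring
  have Gaa : ∑ χ ∈ E, a χ * a χ = 3 := by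
    rw [hgr a a 1 1 1 1 4 ha' ha' (by norm_num), ha1]; norm_num
  have Gbb : ∑ χ ∈ E, b χ * b χ = 4 := by
    rw [hgr b b (ω ^ 2) ω (ω ^ 2) ω 4 hb hb (by push_cast; linear_combination -12 * hω3), hb1]
    norm_num
  have Gcc : ∑ χ ∈ E, c χ * c χ = 4 := by
    rw [hgr c c ω (ω ^ 2) ω (ω ^ 2) 4 hc' hc' (by push_cast; linear_combination -12 * hω3), hc1]
    norm_num
  have Gab : ∑ χ ∈ E, a χ * b χ = 2 := by
    rw [hgr a b 1 1 (ω ^ 2) ω 2 ha' hb (by push_cast; linear_combination -6 * hωs), hb1]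
    norm_num
  have Gac : ∑ χ ∈ E, a χ * c χ = 2 := by
    rw [hgr a c 1 1 ω (ω ^ 2) 2 ha' hc' (by push_cast; linear_combination -6 * hωs), hc1]
    norm_num
  have Gbc : ∑ χ ∈ E, b χ * c χ = 2 := by
    rw [hgr b c (ω ^ 2) ω ω (ω ^ 2) 2 hb hc'
      (by push_cast; linear_combination -6 * hωs - 6 * ω * hω3), hb1]
    norm_num
  have hrow : ∀ χ ∈ E, a χ ^ 2 ≤ 3 ∧ b χ ^ 2 ≤ 4 ∧ c χ ^ 2 ≤ 4 ∧
      adjForm (a χ) (b χ) (c χ) ≤ 20 := by
    intro χ hχ
    refine ⟨?_, ?_, ?_, ?_⟩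
    · rw [← Gaa, sq]
      exact Finset.single_le_sum (f := fun ψ => a ψ * a ψ) (fun ψ _ => mul_self_nonneg _) hχ
    · rw [← Gbb, sq]
      exact Finset.single_le_sum (f := fun ψ => b ψ * b ψ) (fun ψ _ => mul_self_nonneg _) hχ
    · rw [← Gcc, sq]
      exact Finset.single_le_sum (f := fun ψ => c ψ * c ψ) (fun ψ _ => mul_self_nonneg _) hχ
    set v0 := 12 * a χ - 4 * b χ - 4 * c χ with hv0
    set v1 := -4 * a χ + 8 * b χ - 2 * c χ with hv1
    set v2 := -4 * a χ - 2 * b χ + 8 * c χ with hv2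
    have hsum2 : ∑ ψ ∈ E, (v0 * a ψ + v1 * b ψ + v2 * c ψ) ^ 2 =
        20 * adjForm (a χ) (b χ) (c χ) := by
      have e : ∀ ψ, (v0 * a ψ + v1 * b ψ + v2 * c ψ) ^ 2 = v0 ^ 2 * (a ψ * a ψ) +
          v1 ^ 2 * (b ψ * b ψ) + v2 ^ 2 * (c ψ * c ψ) + 2 * v0 * v1 * (a ψ * b ψ) +
          2 * v0 * v2 * (a ψ * c ψ) + 2 * v1 * v2 * (b ψ * c ψ) := fun ψ => by ring
      simp only [e, Finset.sum_add_distrib, ← Finset.mul_sum, Gaa, Gbb, Gcc, Gab, Gac, Gbc]
      simp only [hv0, hv1, hv2, adjForm]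
      ring
    have h1 : (v0 * a χ + v1 * b χ + v2 * c χ) ^ 2 ≤ 20 * adjForm (a χ) (b χ) (c χ) := by
      rw [← hsum2]
      exact Finset.single_le_sum (f := fun ψ => (v0 * a ψ + v1 * b ψ + v2 * c ψ) ^ 2)
        (fun ψ _ => sq_nonneg _) hχ
    rw [show v0 * a χ + v1 * b χ + v2 * c χ = adjForm (a χ) (b χ) (c χ) by
      simp only [hv0, hv1, hv2, adjForm]; ring] at h1
    nlinarith
  have hP2 : ∀ χ ∈ E, a χ * b χ + a χ * c χ ≤ 2 := by
    intro χ hχ
    by_contra hlt
    obtain ⟨h1, h2, h3, h4⟩ := hrow χ hχ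
    have hne := row_ne h1 h2 h3 h4 (by omega)
    have hχ' : conjIrr χ ∈ E := by
      refine Finset.mem_erase.2 ⟨fun h => (Finset.mem_erase.1 hχ).1 ?_, Finset.mem_univ _⟩
      rw [← conjIrr_conjIrr χ, h]
      exact Subtype.ext (funext fun g => map_one (starRingEnd ℂ))
    have hneq : χ ≠ conjIrr χ := fun h => hne (by rw [← hbconj χ, ← h])
    have h5 := Finset.sum_le_sum_of_subset_of_nonneg (f := fun ψ => a ψ * b ψ)
      (show ({χ, conjIrr χ} : Finset (IrrCharacter G)) ⊆ E by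
        simp [Finset.insert_subset_iff, hχ, hχ'])
      (fun ψ hψ _ => by
        obtain ⟨h1, h2, h3, h4⟩ := hrow ψ hψ
        exact row_nonneg h1 h2 h3 h4)
    rw [Finset.sum_pair hneq, haconj, hbconj, Gab] at h5
    exact hlt h5
  -- the class relation
  let T : IrrCharacter G → ℚ := fun χ =>
    ((a χ + b χ + c χ) ^ 2 * (2 * a χ - b χ - c χ) : ℤ) / (charDegree (χ : G → ℂ) : ℚ)
  have hB0 : ∀ χ, χ ∈ principalBlock M G → (χ : G → ℂ) t = ((a χ + b χ + c χ : ℤ) : ℂ) :=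
    fun χ hχ => by rw [← hsum χ]; exact (avg_eq_value hM hC ht hto hO hχ).symm
  have hout : ∀ χ, χ ∉ principalBlock M G → 2 * a χ - b χ - c χ = 0 := fun χ hχ => by
    apply Int.cast_injective (α := ℂ)
    rw [← hdiff, Int.cast_zero]
    show avg χ y + avg χ y⁻¹ = 0
    rw [avg_eq_zero hM hC ht hto hO Sb hSp hSc hχ gy,
      avg_eq_zero hM hC ht hto hO Sb hSp hSc hχ gy', add_zero]
  have hT : ∑ χ, T χ = 0 := by
    have h := class_relation hC ht hto hO gy hnc
    have h' := class_relation hC ht hto hO gy'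
      (fun hh => hnc (by rw [inv_inv] at hh; exact hh.symm))
    have e : ∀ χ : IrrCharacter G, (T χ : ℂ) =
        (χ : G → ℂ) t ^ 2 * conj (avg χ y) / (χ : G → ℂ) 1 +
          (χ : G → ℂ) t ^ 2 * conj (avg χ y⁻¹) / (χ : G → ℂ) 1 := by
      intro χ
      rw [show conj (avg χ y) = z' χ from hz χ, show conj (avg χ y⁻¹) = z χ from hz' χ,
        ← add_div, ← mul_add, add_comm (z' χ), hdiff, irr_one_eq_charDegree]
      simp only [T]
      push_cast
      by_cases hχ : χ ∈ principalBlock M G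
      · rw [hB0 χ hχ]; push_cast; rfl
      · have h0 := congrArg (fun k : ℤ => (k : ℂ)) (hout χ hχ)
        push_cast at h0
        rw [h0, mul_zero, mul_zero]
    apply Rat.cast_injective (α := ℂ)
    push_cast
    simp only [e, Finset.sum_add_distrib]
    rw [h, h', add_zero]
  have hbound : ∀ χ ∈ E, -T χ ≤ ((boundForm (a χ) (b χ) (c χ) : ℤ) : ℚ) / 35 := by
    intro χ hχ
    obtain ⟨h1, h2, h3, h4⟩ := hrow χ hχ
    have hn : (0 : ℤ) < (charDegree (χ : G → ℂ) : ℤ) := Int.natCast_pos.2 (charDegree_pos χ)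
    have h5 := row_le h1 h2 h3 h4 (hP2 χ hχ) hn (by
      by_cases hB : χ ∈ principalBlock M G
      · exact Or.inr (value_facts S hS8 hto hone (Finset.mem_erase.1 hχ).1 (hB0 χ hB))
      · exact Or.inl (hout χ hB))
    have hnQ : (0 : ℚ) < (charDegree (χ : G → ℂ) : ℚ) := Nat.cast_pos.2 (charDegree_pos χ)
    simp only [T]
    rw [← neg_div, div_le_div_iff₀ hnQ (by norm_num)]
    have h6 := (Int.cast_le (R := ℚ)).2 h5
    push_cast at h6 ⊢
    linarith
  have hT1 : T χ₁ = 2 := by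
    have hd1 : charDegree (χ₁ : G → ℂ) = 1 := by
      have h : (χ₁ : G → ℂ) 1 = (1 : ℂ) := rfl
      rw [irr_one_eq_charDegree] at h
      exact_mod_cast h
    simp only [T, ha1, hb1, hc1, hd1]
    norm_num
  have hL : ∑ χ ∈ E, boundForm (a χ) (b χ) (c χ) = 62 := by
    simp only [boundForm, sq, mul_assoc, Finset.sum_add_distrib, Finset.sum_sub_distrib,
      ← Finset.mul_sum, Gaa, Gbb, Gcc, Gab, Gac, Gbc]
    norm_num
  have h := Finset.sum_le_sum hbound
  rw [← Finset.sum_div, ← Int.cast_sum, hL, Finset.sum_neg_distrib] at h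
  have hsplit := Finset.add_sum_erase _ T (Finset.mem_univ χ₁)
  rw [← hE, hT, hT1] at hsplit
  have : ∑ χ ∈ E, T χ = -2 := by linarith
  rw [this] at h
  norm_num at h

end Cfsg.Agent.EightAut
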