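import Cfsg.Agent.Lib.PLocal.PSolvable
import Cfsg.Agent.Lib.Solvable.Fitting
import Cfsg.Agent.Lib.CharP.AxB

/-!
# The centraliser of an involution modulo its core
-/

set_option autoImplicit false
set_option linter.style.haveILetI false

namespace Cfsg.Agent.EightAut

open Cfsg

universe u

variable {G : Type u} [Group G] [Finite G]

/-- The shape `2 × A₄` of `C(t)` modulo its core. -/
theorem exists_quot (S : Sylow 2 G) (hS8 : Nat.card ↥(S : Subgroup G) = 8)
    (hSab : ∀ a ∈ (S : Subgroup G), ∀ b ∈ (S : Subgroup G), a * b = b * a)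
    {t : G} (htS : t ∈ (S : Subgroup G)) (hto : orderOf t = 2)
    (hsolv : Group.IsSolvable ↥(Subgroup.centralizer ({t} : Set G)))
    (h2 : ∀ n ∈ Subgroup.normalizer ((S : Subgroup G) : Set G), n * t = t * n →
      ∀ s ∈ (S : Subgroup G), s ≠ 1 → s ≠ t → n * s = s * n →
        n ∈ Subgroup.centralizer ((S : Subgroup G) : Set G))
    (h3 : (Subgroup.centralizer ((S : Subgroup G) : Set G)).relIndex
      (Subgroup.normalizer ((S : Subgroup G) : Set G) ⊓ Subgroup.centralizer ({t} : Set G)) = 3) :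
    ∃ (O : Subgroup ↥(Subgroup.centralizer ({t} : Set G))) (hn : O.Normal),
      ¬ 2 ∣ Nat.card O ∧
      ∃ (Sb : Subgroup (↥(Subgroup.centralizer ({t} : Set G)) ⧸ O))
        (y : ↥(Subgroup.centralizer ({t} : Set G)) ⧸ O)
        (tC : ↥(Subgroup.centralizer ({t} : Set G))), (tC : G) = t ∧
        Sb.Normal ∧ IsPGroup 2 Sb ∧ Subgroup.centralizer (Sb : Set _) ≤ Sb ∧
        Nat.card (↥(Subgroup.centralizer ({t} : Set G)) ⧸ O) = 24 ∧
        y ^ 6 = 1 ∧ y ^ 3 = QuotientGroup.mk' O tC ∧ y ^ 2 ≠ 1 ∧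
        Nat.card (Subgroup.centralizer ({y} : Set _)) = 6 ∧ ¬ IsConj y y⁻¹ := by
  classical
  set C := Subgroup.centralizer ({t} : Set G) with hC
  haveI : Fact (Nat.Prime 2) := ⟨Nat.prime_two⟩
  set S0 : Subgroup G := (S : Subgroup G) with hS0
  set N := Subgroup.normalizer (S0 : Set G) with hN
  set K := Subgroup.centralizer (S0 : Set G) with hK
  have hSC : S0 ≤ C := fun s hs => Subgroup.mem_centralizer_singleton_iff.2 (hSab s hs t htS)
  have hCmem : ∀ {g : G}, g ∈ C → g * t = t * g := fun hg =>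
    Subgroup.mem_centralizer_singleton_iff.1 hg
  let tC : C := ⟨t, hSC htS⟩
  set O := Cfsg.pPrimeCore 2 C with hO
  haveI hOn : O.Normal := FittingCores.pPrimeCore_normal 2
  have hOc : (Nat.card O).Coprime 2 := FittingCores.pPrimeCore_coprime 2
  set π := QuotientGroup.mk' O with hπ
  have hπs : Function.Surjective π := QuotientGroup.mk'_surjective O
  set U := Cfsg.pCore 2 (C ⧸ O) with hU
  haveI hUn : U.Normal := FittingCores.pCore_normal 2
  have hUp : IsPGroup 2 U := AxB.isPGroup_pCore 2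
  have hCU : Subgroup.centralizer (U : Set (C ⧸ O)) ≤ U :=
    PSolvable.centralizer_pCore_le (PSolvable.quotient O (PSolvable.of_solvable hsolv))
      (FittingCores.pPrimeCore_quotient_eq_bot 2 O hO)
  let S' : Sylow 2 C := S.subtype hSC
  have hS'coe : (S' : Subgroup C) = S0.subgroupOf C := S.coe_subtype hSC
  have hS'ab : ∀ a ∈ (S' : Subgroup C), ∀ b ∈ (S' : Subgroup C), a * b = b * a := by
    rw [hS'coe]
    exact fun a ha b hb => Subtype.ext (hSab _ ha _ hb)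
  obtain ⟨Q', hQ'⟩ : ∃ Q' : Sylow 2 (C ⧸ O), (Q' : Subgroup (C ⧸ O)) = (S' : Subgroup C).map π :=
    ⟨S'.mapSurjective hπs, Sylow.coe_mapSurjective hπs S'⟩
  have hUQ : U ≤ Q' := by
    obtain ⟨R₀, hR₀⟩ := hUp.exists_le_sylow
    obtain ⟨g, rfl⟩ := MulAction.exists_smul_eq (C ⧸ O) R₀ Q'
    intro z hz
    rw [Sylow.coe_subgroup_smul, Subgroup.mem_pointwise_smul_iff_inv_smul_mem]
    refine hR₀ ?_
    simp only [MulAut.smul_def, MulAut.inv_def, MulAut.conj_symm_apply]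
    simpa using hUn.conj_mem z hz g⁻¹
  have hQab : ∀ a ∈ (Q' : Subgroup (C ⧸ O)), ∀ b ∈ (Q' : Subgroup (C ⧸ O)), a * b = b * a := by
    rw [hQ']
    rintro _ ⟨a, ha, rfl⟩ _ ⟨b, hb, rfl⟩
    rw [← map_mul, ← map_mul, hS'ab a ha b hb]
  have hSU : (S' : Subgroup C).map π = U := by
    rw [← hQ']
    refine le_antisymm (le_trans ?_ hCU) hUQ
    exact fun s hs => Subgroup.mem_centralizer_iff.2 fun u hu => hQab u (hUQ hu) s hs
  have hmemU : ∀ {s : G} (hs : s ∈ S0), π ⟨s, hSC hs⟩ ∈ U := fun hs => by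
    rw [← hSU]
    refine Subgroup.mem_map_of_mem π ?_
    rw [hS'coe]
    exact Subgroup.mem_subgroupOf.2 hs
  have hUex : ∀ q ∈ U, ∃ (s : G) (hs : s ∈ S0), π ⟨s, hSC hs⟩ = q := by
    intro q hq
    rw [← hSU] at hq
    obtain ⟨s, hs, rfl⟩ := hq
    exact ⟨(s : G), Subgroup.mem_subgroupOf.1 (hS'coe ▸ hs), rfl⟩
  -- an element of the core in `S` is trivial
  have hker : ∀ {s : G} (hs : s ∈ S0), π ⟨s, hSC hs⟩ = 1 → s = 1 := by
    intro s hs h
    rw [← orderOf_eq_one_iff]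
    refine Nat.eq_one_of_dvd_coprimes (a := Nat.card O) (b := 2 ^ 3) (hOc.pow_right 3) ?_ ?_
    · rw [← Subgroup.orderOf_mk s (hSC hs)]
      exact Subgroup.orderOf_dvd_natCard O ((QuotientGroup.eq_one_iff _).1 h)
    · exact (Subgroup.orderOf_dvd_natCard S0 hs).trans hS8.dvd
  -- Frattini
  have hfrat : ∀ q : C ⧸ O, ∃ (n : G) (hn : n ∈ N ⊓ C), π ⟨n, (Subgroup.mem_inf.1 hn).2⟩ = q := by
    have hle : (S' : Subgroup C) ≤ U.comap π := fun s hs => by
      rw [Subgroup.mem_comap, ← hSU]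
      exact Subgroup.mem_map_of_mem π hs
    have htop := Sylow.normalizer_sup_eq_top' (N := U.comap π) S' hle
    have hM : U.comap π = (S' : Subgroup C) ⊔ O := by
      rw [← hSU, Subgroup.comap_map_eq, QuotientGroup.ker_mk']
    have hsn : (S' : Subgroup C) ≤ Subgroup.normalizer (S' : Set C) := Subgroup.le_normalizer
    rw [hM, ← sup_assoc, sup_eq_left.2 hsn] at htop
    intro q
    obtain ⟨c, rfl⟩ := hπs q
    have hc : π c ∈ (Subgroup.normalizer (S' : Set C) ⊔ O).map π := by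
      rw [htop]
      exact Subgroup.mem_map_of_mem π (Subgroup.mem_top c)
    rw [Subgroup.map_sup, (Subgroup.map_eq_bot_iff O).2 (QuotientGroup.ker_mk' O).ge,
      sup_bot_eq] at hc
    obtain ⟨n, hn, hnc⟩ := hc
    refine ⟨(n : G), Subgroup.mem_inf.2 ⟨?_, n.2⟩, hnc⟩
    rw [← Sylow.coe_coe, hS'coe] at hn
    have hn' := fun h => Subgroup.mem_normalizer_iff.1 hn h
    refine Subgroup.mem_normalizer_iff.2 fun h => ⟨fun hh => ?_, fun hh => ?_⟩
    · exact Subgroup.mem_subgroupOf.1 ((hn' ⟨h, hSC hh⟩).1 (Subgroup.mem_subgroupOf.2 hh))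
    · have hhC : h ∈ C := by
        have := C.mul_mem (C.mul_mem (C.inv_mem n.2) (hSC hh)) n.2
        simpa [mul_assoc] using this
      exact Subgroup.mem_subgroupOf.1 ((hn' ⟨h, hhC⟩).2 (Subgroup.mem_subgroupOf.2 hh))
  -- commuting modulo the core
  have hlift : ∀ {n s : G} (hn : n ∈ N ⊓ C) (hs : s ∈ S0),
      Commute (π ⟨n, (Subgroup.mem_inf.1 hn).2⟩) (π ⟨s, hSC hs⟩) → n * s = s * n := by
    intro n s hn hs h
    have hns : n * s * n⁻¹ ∈ S0 :=
      (Subgroup.mem_normalizer_iff.1 (Subgroup.mem_inf.1 hn).1 s).1 hs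
    have hz : n * s * n⁻¹ * s⁻¹ ∈ S0 := S0.mul_mem hns (S0.inv_mem hs)
    have h1 : π ⟨n * s * n⁻¹ * s⁻¹, hSC hz⟩ = 1 := by
      rw [show (⟨n * s * n⁻¹ * s⁻¹, hSC hz⟩ : C) =
        (⟨n, (Subgroup.mem_inf.1 hn).2⟩ * ⟨s, hSC hs⟩ * ⟨n, (Subgroup.mem_inf.1 hn).2⟩⁻¹ *
          ⟨s, hSC hs⟩⁻¹ : C) from rfl]
      simp only [map_mul, map_inv]
      rw [h.eq, mul_inv_cancel_right, mul_inv_cancel]
    have := hker hz h1
    rwa [mul_inv_eq_one, mul_inv_eq_iff_eq_mul] at this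
  have hKU : ∀ {n : G} (hn : n ∈ N ⊓ C),
      π ⟨n, (Subgroup.mem_inf.1 hn).2⟩ ∈ U ↔ n ∈ K := by
    intro n hn
    refine ⟨fun h => Subgroup.mem_centralizer_iff.2 fun s hs => ?_, fun h => hCU ?_⟩
    · refine (hlift hn hs ?_).symm
      exact hQab _ (hUQ h) _ (hUQ (hmemU hs))
    · refine Subgroup.mem_centralizer_iff.2 fun q hq => ?_
      obtain ⟨s, hs, rfl⟩ := hUex q hq
      rw [← map_mul, ← map_mul]
      exact congrArg π (Subtype.ext (Subgroup.mem_centralizer_iff.1 h s hs))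
  have hindex : U.index = 3 := by
    let φ : ↥(N ⊓ C) →* C ⧸ O := π.comp (Subgroup.inclusion inf_le_right)
    have hφ : Function.Surjective φ := fun q => by
      obtain ⟨n, hn, hq⟩ := hfrat q
      exact ⟨⟨n, hn⟩, hq⟩
    rw [← Subgroup.index_comap_of_surjective (f := φ) U hφ, ← h3, Subgroup.relIndex]
    congr 1
    ext ⟨n, hn⟩
    rw [Subgroup.mem_comap, Subgroup.mem_subgroupOf]
    exact hKU hn
  have hU8 : Nat.card U = 8 := by
    rw [← hS8]
    refine (Nat.card_congr (Equiv.ofBijective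
      (fun s : S0 => (⟨π ⟨s, hSC s.2⟩, hmemU s.2⟩ : U)) ⟨?_, ?_⟩)).symm
    · intro a b h
      have h' : π ⟨(a : G), hSC a.2⟩ = π ⟨(b : G), hSC b.2⟩ := congrArg Subtype.val h
      refine Subtype.ext (mul_inv_eq_one.1 (hker (S0.mul_mem a.2 (S0.inv_mem b.2)) ?_))
      rw [show (⟨(a : G) * (b : G)⁻¹, _⟩ : C) = ⟨(a : G), hSC a.2⟩ * ⟨(b : G), hSC b.2⟩⁻¹
        from rfl, map_mul, map_inv, h', mul_inv_cancel]
    · rintro ⟨q, hq⟩
      obtain ⟨s, hs, rfl⟩ := hUex q hq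
      exact ⟨⟨s, hs⟩, rfl⟩
  have h24 : Nat.card (C ⧸ O) = 24 := by rw [← U.index_mul_card, hindex, hU8]
  have hcent : ∀ q : C ⧸ O, q ∉ U → ∀ b ∈ U, q * b = b * q → b = 1 ∨ b = π tC := by
    intro q hq b hb hqb
    obtain ⟨n, hn, rfl⟩ := hfrat q
    obtain ⟨s, hs, rfl⟩ := hUex b hb
    have hns := hlift hn hs hqb
    by_contra hne
    rw [not_or] at hne
    refine hq ((hKU hn).2 (h2 n (Subgroup.mem_inf.1 hn).1 (hCmem (Subgroup.mem_inf.1 hn).2) s hs
      (fun h => hne.1 ?_) (fun h => hne.2 ?_) hns))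
    · subst h
      exact map_one π
    · subst h
      rfl
  have htcentral : ∀ q : C ⧸ O, Commute (π tC) q := by
    intro q
    obtain ⟨c, rfl⟩ := hπs q
    show π tC * π c = π c * π tC
    rw [← map_mul, ← map_mul]
    exact congrArg π (Subtype.ext (hCmem c.2).symm)
  have htC2 : π tC * π tC = 1 := by
    rw [← map_mul, show tC * tC = 1 from Subtype.ext (by
      show t * t = 1
      rw [← sq, ← hto, pow_orderOf_eq_one]), map_one]
  have ht1 : π tC ≠ 1 := fun h => by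
    rw [hker htS h, orderOf_one] at hto
    exact absurd hto (by norm_num)
  have htU : π tC ∈ U := hmemU htS
  -- the element of order six
  have hUtop : U ≠ ⊤ := fun h => by rw [h, Subgroup.index_top] at hindex; omega
  obtain ⟨q0, -, hq0⟩ := SetLike.exists_of_lt (lt_top_iff_ne_top.2 hUtop)
  have h24' : ∀ q : C ⧸ O, q ^ 24 = 1 := fun q => by rw [← h24]; exact pow_card_eq_one'
  have hq03 : q0 ^ 3 ∈ U := hindex ▸ Subgroup.pow_index_mem U q0
  set x := q0 ^ 8 with hx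
  have hxU : x ∉ U := fun h => hq0 (by
    have e : x * q0 = (q0 ^ 3) ^ 3 := by rw [hx, ← pow_succ, ← pow_mul]
    rw [eq_inv_mul_of_mul_eq e]
    exact U.mul_mem (U.inv_mem h) (U.pow_mem hq03 3))
  have hx3 : x ^ 3 = 1 := by rw [hx, ← pow_mul]; exact h24' q0
  set y := π tC * x with hy
  have hcomm : Commute (π tC) x := htcentral x
  have hy3 : y ^ 3 = π tC := by
    rw [hy, hcomm.mul_pow, hx3, mul_one, pow_succ, sq, htC2, one_mul]
  have hy4 : y ^ 4 = x := by
    rw [pow_succ, hy3, hy, ← mul_assoc, htC2, one_mul]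
  have hy6 : y ^ 6 = 1 := by rw [show 6 = 3 * 2 by norm_num, pow_mul, hy3, sq, htC2]
  have hyU : y ∉ U := fun h => hxU (hy4 ▸ U.pow_mem h 4)
  have hy2U : y ^ 2 ∉ U := fun h => hyU (by
    rw [eq_inv_mul_of_mul_eq (pow_succ y 2).symm]
    exact U.mul_mem (U.inv_mem h) (show y ^ 3 ∈ U by rw [hy3]; exact htU))
  have hy2 : y ^ 2 ≠ 1 := fun h => hy2U (h ▸ U.one_mem)
  have hyord : orderOf y = 6 := by
    have h := orderOf_dvd_of_pow_eq_one hy6
    have h' : orderOf y ≤ 6 := Nat.le_of_dvd (by norm_num) h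
    have hpos : 0 < orderOf y := orderOf_pos y
    have hn2 : ¬ orderOf y ∣ 2 := fun h => hy2 (orderOf_dvd_iff_pow_eq_one.1 h)
    have hn3 : ¬ orderOf y ∣ 3 := fun h => ht1 (hy3 ▸ orderOf_dvd_iff_pow_eq_one.1 h)
    interval_cases hk : orderOf y <;> omega
  have hcard3 : Nat.card ((C ⧸ O) ⧸ U) = 3 := hindex
  haveI : Fact (Nat.Prime 3) := ⟨Nat.prime_three⟩
  have hycent : Subgroup.centralizer ({y} : Set (C ⧸ O)) = Subgroup.zpowers y := by
    refine le_antisymm (fun q hq => ?_) (Subgroup.zpowers_le.2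
      (Subgroup.mem_centralizer_singleton_iff.2 rfl))
    have hqy : Commute q y := Subgroup.mem_centralizer_singleton_iff.1 hq
    have hqx : Commute q x := hy4 ▸ hqy.pow_right 4
    have hxne : QuotientGroup.mk' U x ≠ 1 := fun h => hxU ((QuotientGroup.eq_one_iff x).1 h)
    obtain ⟨k, hk⟩ := mem_powers_of_prime_card (g' := QuotientGroup.mk' U q) hcard3 hxne
    simp only at hk
    rw [← map_pow] at hk
    have hs : (x ^ k)⁻¹ * q ∈ U := (QuotientGroup.eq (s := U)).1 hk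
    have hsc : x * ((x ^ k)⁻¹ * q) = ((x ^ k)⁻¹ * q) * x := by
      have h1 : Commute x ((x ^ k)⁻¹ * q) :=
        (((Commute.refl x).pow_right k).inv_right).mul_right hqx.symm
      exact h1.eq
    have hxk : x ^ k ∈ Subgroup.zpowers y :=
      Subgroup.pow_mem _ (hy4 ▸ Subgroup.pow_mem _ (Subgroup.mem_zpowers y) 4) k
    rcases hcent x hxU _ hs hsc with h | h
    · rw [show q = x ^ k by rw [inv_mul_eq_one] at h; exact h.symm]
      exact hxk
    · rw [show q = x ^ k * y ^ 3 by rw [hy3, ← h, mul_inv_cancel_left]]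
      exact Subgroup.mul_mem _ hxk (Subgroup.pow_mem _ (Subgroup.mem_zpowers y) 3)
  have hnc : ¬ IsConj y y⁻¹ := by
    intro h
    obtain ⟨g, hg⟩ := isConj_iff.1 h
    have hcy := congrArg (QuotientGroup.mk' U) hg
    haveI : IsCyclic ((C ⧸ O) ⧸ U) := isCyclic_of_prime_card hcard3
    have hab : ∀ a b : (C ⧸ O) ⧸ U, a * b = b * a := fun a b => by
      obtain ⟨z, hz⟩ := IsCyclic.exists_generator (α := (C ⧸ O) ⧸ U)
      obtain ⟨i, rfl⟩ := Subgroup.mem_zpowers_iff.1 (hz a)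
      obtain ⟨j, rfl⟩ := Subgroup.mem_zpowers_iff.1 (hz b)
      rw [← zpow_add, ← zpow_add, add_comm]
    rw [map_mul, map_mul, map_inv, map_inv, hab _ (QuotientGroup.mk' U y),
      mul_inv_cancel_right, eq_inv_iff_mul_eq_one, ← map_mul, ← sq] at hcy
    exact hy2U ((QuotientGroup.eq_one_iff _).1 hcy)
  refine ⟨O, hOn, (Nat.Prime.coprime_iff_not_dvd Nat.prime_two).1 hOc.symm, U, y, tC, rfl, hUn,
    hUp, hCU, h24, hy6, hy3, hy2, ?_, hnc⟩
  rw [hycent, Nat.card_zpowers, hyord]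

end Cfsg.Agent.EightAut
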