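import Mathlib

/-!
# The integral rows of the Gram matrix `[[3, 2, 2], [2, 4, 2], [2, 2, 4]]`
-/

set_option autoImplicit false

namespace Cfsg.Agent.EightAut

/-- The quadratic form of the adjugate of the Gram matrix. -/
def adjForm (a b c : ℤ) : ℤ := 12 * a ^ 2 + 8 * b ^ 2 + 8 * c ^ 2 - 8 * a * b - 8 * a * c - 4 * b * c

/-- The linear functional of the Gram matrix bounding the terms of the class relation. -/
def boundForm (a b c : ℤ) : ℤ :=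
  34 * a ^ 2 + 7 * b ^ 2 + 7 * c ^ 2 - 31 * a * b - 31 * a * c + 14 * b * c

variable {a b c : ℤ}

theorem row_range (ha : a ^ 2 ≤ 3) (hb : b ^ 2 ≤ 4) (hc : c ^ 2 ≤ 4) :
    (-1 ≤ a ∧ a ≤ 1) ∧ (-2 ≤ b ∧ b ≤ 2) ∧ (-2 ≤ c ∧ c ≤ 2) := by
  refine ⟨⟨?_, ?_⟩, ⟨?_, ?_⟩, ⟨?_, ?_⟩⟩ <;> nlinarith

theorem row_nonneg (ha : a ^ 2 ≤ 3) (hb : b ^ 2 ≤ 4) (hc : c ^ 2 ≤ 4)
    (hq : adjForm a b c ≤ 20) : 0 ≤ a * b := by
  obtain ⟨⟨ha1, ha2⟩, ⟨hb1, hb2⟩, ⟨hc1, hc2⟩⟩ := row_range ha hb hc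
  simp only [adjForm] at hq
  interval_cases a <;> interval_cases b <;> interval_cases c <;> omega

theorem row_ne (ha : a ^ 2 ≤ 3) (hb : b ^ 2 ≤ 4) (hc : c ^ 2 ≤ 4)
    (hq : adjForm a b c ≤ 20) (h : 3 ≤ a * b + a * c) : b ≠ c := by
  obtain ⟨⟨ha1, ha2⟩, ⟨hb1, hb2⟩, ⟨hc1, hc2⟩⟩ := row_range ha hb hc
  simp only [adjForm] at hq
  interval_cases a <;> interval_cases b <;> interval_cases c <;> omega

theorem row_le (ha : a ^ 2 ≤ 3) (hb : b ^ 2 ≤ 4) (hc : c ^ 2 ≤ 4)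
    (hq : adjForm a b c ≤ 20) (h : a * b + a * c ≤ 2) {n : ℤ} (hn : 0 < n)
    (hcond : 2 * a - b - c = 0 ∨
      ((n - (a + b + c)) % 8 = 0 ∧ 0 ≤ n + 7 * (a + b + c) ∧ n ≠ a + b + c)) :
    -35 * ((a + b + c) ^ 2 * (2 * a - b - c)) ≤ boundForm a b c * n := by
  obtain ⟨⟨ha1, ha2⟩, ⟨hb1, hb2⟩, ⟨hc1, hc2⟩⟩ := row_range ha hb hc
  simp only [adjForm] at hq
  simp only [boundForm]
  interval_cases a <;> interval_cases b <;> interval_cases c <;> omega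

end Cfsg.Agent.EightAut
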